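import Groth.Prelude.Def_CohB1
import Groth.Agent.AlgSpDec.SmoothLocDim
import Groth.Agent.Lib.SmoothPn
import Groth.Agent.CycLib.Flat
import Groth.Agent.FibDim.RelDim
import Groth.Agent.FibDim.AffineSpaceFibre
import Groth.Agent.DimFormula.Fibre
import Groth.Agent.PnCoh.Chow.Proper
import Mathlib.CategoryTheory.Limits.Shapes.WidePullbacks

/-! Fibre products of projective lines over a base: finite type, properness, fibre dimension. -/

set_option autoImplicit false
universe u

open AlgebraicGeometry CategoryTheory Limits

namespace Groth.Agent.H23.MultiP1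

variable (X : Scheme.{u})

instance smoothOfRelativeDimension_toBase (n : ℕ) :
    SmoothOfRelativeDimension n (CohB1.ProjSpaceOver.toBase n X) :=
  haveI := smoothOfRelativeDimension_isStableUnderBaseChange.{u} (n := n)
  MorphismProperty.of_isPullback
    (P := (@SmoothOfRelativeDimension n : MorphismProperty Scheme.{u}))
    (IsPullback.of_hasPullback (CohB1.ProjSpace.toSpec n (ULift.{u} ℤ)) (specULiftZIsTerminal.from X))
    (SmoothPn.smoothOfRelativeDimension_toSpec n _)

theorem isProper_toBase (n : ℕ) : IsProper (CohB1.ProjSpaceOver.toBase n X) := by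
  have := Groth.Agent.PnCoh.Chow.isProper_toSpec n (ULift.{u} ℤ)
  exact MorphismProperty.of_isPullback (P := (@IsProper : MorphismProperty Scheme.{u}))
    (IsPullback.of_hasPullback _ _) this

/-- The `n`-fold product of projective lines. -/
noncomputable abbrev P (n : ℕ) : Scheme.{u} :=
  widePullback X (fun _ : Fin n => CohB1.ProjSpaceOver 1 X)
    (fun _ => CohB1.ProjSpaceOver.toBase 1 X)

/-- Its structure map. -/
noncomputable abbrev π (n : ℕ) : P X n ⟶ X :=
  WidePullback.base (fun _ : Fin n => CohB1.ProjSpaceOver.toBase 1 X)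

/-- Forget the last factor. -/
noncomputable def res (n : ℕ) : P X (n + 1) ⟶ P X n :=
  WidePullback.lift (π X (n + 1)) (fun i => WidePullback.π _ i.castSucc)
    (fun _ => WidePullback.π_arrow _ _)

theorem res_π (n : ℕ) : res X n ≫ π X n = π X (n + 1) := WidePullback.lift_base _ _ _ _

theorem isPullback_res (n : ℕ) :
    IsPullback (WidePullback.π (fun _ : Fin (n + 1) => CohB1.ProjSpaceOver.toBase 1 X) (Fin.last n))
      (res X n) (CohB1.ProjSpaceOver.toBase 1 X) (π X n) := by
  refine IsPullback.of_isLimit' ⟨by rw [WidePullback.π_arrow, res_π]⟩ ?_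
  refine PullbackCone.IsLimit.mk _ (fun s => WidePullback.lift (s.snd ≫ π X n)
      (fun i => Fin.lastCases (motive := fun _ => s.pt ⟶ CohB1.ProjSpaceOver 1 X) s.fst
        (fun j => s.snd ≫ WidePullback.π _ j) i)
      (fun i => ?_)) (fun s => ?_) (fun s => ?_) (fun s m h1 h2 => ?_)
  · induction i using Fin.lastCases with
    | last => rw [Fin.lastCases_last]; exact s.condition
    | cast j => rw [Fin.lastCases_castSucc, Category.assoc, WidePullback.π_arrow]
  · rw [WidePullback.lift_π, Fin.lastCases_last]
  · apply WidePullback.hom_ext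
    · intro j
      rw [Category.assoc, res, WidePullback.lift_π, WidePullback.lift_π, Fin.lastCases_castSucc]
    · rw [Category.assoc, res_π, WidePullback.lift_base]
  · apply WidePullback.hom_ext
    · intro i
      rw [WidePullback.lift_π]
      induction i using Fin.lastCases with
      | last => rw [Fin.lastCases_last]; exact h1
      | cast j =>
        rw [Fin.lastCases_castSucc, ← h2, Category.assoc, res, WidePullback.lift_π]
    · rw [WidePullback.lift_base, ← h2, Category.assoc, res_π]

theorem isIso_π_zero : IsIso (π X 0) := by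
  refine ⟨⟨WidePullback.lift (𝟙 X) (fun i => i.elim0) (fun i => i.elim0), ?_,
    WidePullback.lift_base _ _ _ _⟩⟩
  apply WidePullback.hom_ext
  · exact fun i => i.elim0
  · rw [Category.assoc, WidePullback.lift_base, Category.comp_id, Category.id_comp]

instance isProper_π : ∀ n, IsProper (π X n)
  | 0 => by
    have := isIso_π_zero X
    infer_instance
  | n + 1 => by
    have := isProper_π n
    have : IsProper (res X n) :=
      MorphismProperty.of_isPullback (P := @IsProper) (isPullback_res X n) (isProper_toBase X 1)
    rw [← res_π]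
    infer_instance

instance isProper_res (n : ℕ) : IsProper (res X n) :=
  MorphismProperty.of_isPullback (P := @IsProper) (isPullback_res X n) (isProper_toBase X 1)

theorem fibreDimAt_le : ∀ (n : ℕ) (z : P X n),
    FlatMor.fibreDimAt (π X n) z ≤ ((n : ℕ∞) : WithBot ℕ∞)
  | 0, z => by
    have := isIso_π_zero X
    obtain ⟨w, -, -, -, he⟩ := FibDim.exists_fibMax_generization (π X 0) z
    rw [he, FibDim.rd_eq_zero_of_quasiFinite]
  | n + 1, z => by
    have := isProper_toBase X 1
    rw [← res_π]
    refine (FibDim.fibreDimAt_comp_le (res X n) (π X n) z).trans ?_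
    rw [FibDim.fibreDimAt_baseChange (isPullback_res X n),
      FibDim.fibreDimAt_eq_of_hasRelDim _
        (AlgSpDec.SmoothLocDim.hasRelDim_of_smoothOfRelativeDimension 1 _)]
    refine (add_le_add le_rfl (fibreDimAt_le n _)).trans ?_
    rw [add_comm]
    exact le_of_eq (by push_cast; rfl)

theorem rd_add_fb_le (n : ℕ) (z : P X n) :
    FibDim.rd (π X n) z + DimFormula.fb (π X n) z ≤ n := by
  have h := fibreDimAt_le X n z
  rw [DimFormula.fibreDimAt_eq_add] at h
  exact_mod_cast h

end Groth.Agent.H23.MultiP1
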